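import Cfsg.Agent.DCosetCert22.Sound
import Mathlib.GroupTheory.Coset.Card
import Mathlib.GroupTheory.Index
import Mathlib.Algebra.Order.BigOperators.Group.Finset

/-!
A certificate whose live nodes are closed under `t` bounds the index.
-/

set_option autoImplicit false

namespace CfsgLib.DCert22

variable {G Hg : Type*} [Group G] [Group Hg] {C : Code} (M : Model C G Hg)
variable {L : Subgroup G} {D : Cert} {n : ℕ} (rep : ℕ → ℕ) (live : List ℕ)

/-- `t` at point `p` of node `a` lands in a live node -/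
def Good (L : Subgroup G) (D : Cert) (live : List ℕ) (a h : ℕ) : Prop :=
  ∃ b ∈ live, ∃ g, M.Ok g ∧ Rel L (stVal M D (a, h) * M.t) (stVal M D (b, g))

variable {live}

/-- an element that `t` carries to a code -/
def Slide (c : ℕ) : Prop :=
  M.Ok c ∧ ∃ d, M.Ok d ∧ M.val c * M.t = M.t * M.val d

theorem slide_of_cim {c d : ℕ} (h : C.cim c = some d) : Slide M c :=
  ⟨(M.cim_ok h).1, d, (M.cim_ok h).2.1, (M.cim_ok h).2.2⟩

theorem slide_mul {a b : ℕ} (ha : Slide M a) (hb : Slide M b) : Slide M (C.mul a b) := by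
  obtain ⟨oa, c, oc, hc⟩ := ha
  obtain ⟨ob, d, od, hd⟩ := hb
  refine ⟨M.ok_mul oa ob, C.mul c d, M.ok_mul oc od, ?_⟩
  rw [M.val_mul oa ob, M.val_mul oc od, mul_assoc, hd, ← mul_assoc, hc, mul_assoc]

theorem good_right {a h c : ℕ} (hg : Good M L D live a h) (hh : M.Ok h)
    (hc : Slide M c) : Good M L D live a (C.mul h c) := by
  obtain ⟨b, hb, g, hgo, hr⟩ := hg
  obtain ⟨oc, d, od, hcd⟩ := hc
  refine ⟨b, hb, C.mul g d, M.ok_mul hgo od, ?_⟩
  have := hr.mul (M.val d)
  simp only [stVal, M.val_mul hh oc, M.val_mul hgo od] at this ⊢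
  simpa [mul_assoc, hcd] using this

theorem good_of_factor {a h r : ℕ} (hg : Good M L D live a r) (hr : M.Ok r) (hh : M.Ok h)
    (hc : Slide M (C.mul (C.inv r) h)) : Good M L D live a h := by
  have h1 := good_right M hg hr hc
  obtain ⟨b, hb, g, hgo, h2⟩ := h1
  refine ⟨b, hb, g, hgo, ?_⟩
  simp only [stVal, M.val_mul hr (M.ok_mul (M.ok_inv hr) hh), M.val_mul (M.ok_inv hr) hh,
    M.val_inv hr, mul_inv_cancel_left] at h2 ⊢
  exact h2

theorem testBit_step {m p q : ℕ} (h : Nat.testBit (Nat.lor m (Nat.shiftLeft 1 p)) q = true) :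
    Nat.testBit m q = true ∨ q = p := by
  change Nat.testBit (m ||| (1 <<< p)) q = true at h
  rw [Nat.testBit_or, Bool.or_eq_true, Nat.one_shiftLeft, Nat.testBit_two_pow] at h
  rcases h with h | h
  · exact Or.inl h
  · exact Or.inr (of_decide_eq_true h).symm

theorem chainFrom_spec (hA : AllHold M L D n) (a : ℕ) {m₀ : ℕ}
    (h₀ : ∀ q, Nat.testBit m₀ q = true → M.Ok (rep q) ∧ Good M L D live a (rep q)) :
    ∀ (ls : List Link) (m : ℕ), chainFrom C D n rep live a m₀ ls = some m →
    ∀ q, Nat.testBit m q = true → M.Ok (rep q) ∧ Good M L D live a (rep q)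
  | [], m, h, q, hq => by
    simp only [chainFrom, Option.some.injEq] at h
    subst h
    exact h₀ q hq
  | l :: ls, m', h, q, hq => by
    simp only [chainFrom] at h
    split at h
    swap; · cases h
    next m hm =>
    split at h
    swap; · cases h
    next hl =>
    cases h
    rcases testBit_step hq with hq | rfl
    · exact chainFrom_spec hA a h₀ ls m hm q hq
    cases l with
    | edge p f s =>
      simp only [linkOK, Bool.and_eq_true] at hl
      obtain ⟨hv, hs⟩ := hl
      split at hs
      swap; · simp at hs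
      next b g hst =>
      obtain ⟨-, og, hr⟩ := step_spec M hA (p := (a, rep p)) (M.ok_valid hv) hst
      exact ⟨M.ok_valid hv, b, List.contains_iff_mem.1 hs, g, og,
        by simpa [Model.pathVal, Link.pt] using hr⟩
    | back p f s r =>
      simp only [linkOK, Bool.and_eq_true] at hl
      obtain ⟨⟨⟨hv, hvr⟩, hd⟩, hs⟩ := hl
      split at hs
      swap; · simp at hs
      next b g hst =>
      simp only [Bool.and_eq_true] at hs
      obtain rfl := Nat.eq_of_beq_eq_true hs.1
      obtain ⟨d, hd'⟩ := Option.isSome_iff_exists.1 hs.2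
      obtain ⟨-, og, hr⟩ := step_spec M hA (p := (_, rep p)) (M.ok_valid hv) hst
      obtain ⟨c, hc, w, ow, hw⟩ :=
        good_of_factor M (chainFrom_spec hA _ h₀ ls m hm r hd).2 (M.ok_valid hvr) og (slide_of_cim M hd')
      refine ⟨M.ok_valid hv, c, hc, w, ow, ?_⟩
      have := hr.mul M.t
      simp only [Model.pathVal, mul_one] at this
      exact this.trans hw

/-- the bits of a mask are good points -/
def BitsGood (L : Subgroup G) (D : Cert) (live : List ℕ) (a m : ℕ) : Prop :=
  ∀ q, Nat.testBit m q = true → M.Ok (rep q) ∧ Good M L D live a (rep q)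

theorem bitsGood_zero (a : ℕ) : BitsGood M rep L D live a 0 := fun q hq => by simp at hq

theorem segOK_spec (hA : AllHold M L D n) {a m₀ m₁ : ℕ} {ls : List Link}
    (h₀ : BitsGood M rep L D live a m₀) (h : segOK C D n rep live a m₀ m₁ ls = true) :
    BitsGood M rep L D live a m₁ := by
  simp only [segOK] at h
  split at h
  swap; · simp at h
  next m hm =>
  exact Nat.eq_of_beq_eq_true h ▸ chainFrom_spec M rep hA a h₀ ls m hm

theorem good_of_bits {np a m : ℕ} (hb : BitsGood M rep L D live a m)
    (h : fullMask np m = true)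
    (hcov : ∀ x, M.Ok x → ∃ p < np, Slide M (C.mul (C.inv (rep p)) x)) :
    ∀ x, M.Ok x → Good M L D live a x := by
  intro x hx
  obtain ⟨p, hp, hpx⟩ := hcov x hx
  have hm' : m = 1 <<< np - 1 := Nat.eq_of_beq_eq_true h
  have hbit : Nat.testBit m p = true := by
    rw [hm', Nat.one_shiftLeft, Nat.testBit_two_pow_sub_one]
    exact decide_eq_true hp
  obtain ⟨hr, hg⟩ := hb p hbit
  exact good_of_factor M hg hr hx hpx

/-- the cosets of the live nodes -/
def Covered (L : Subgroup G) (D : Cert) (live : List ℕ) (w : G) : Prop :=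
  ∃ b ∈ live, ∃ g, M.Ok g ∧ Rel L w (stVal M D (b, g))

theorem covered_all (h0 : 0 ∈ live) (hgen : M.hom.range ⊔ Subgroup.closure {M.t} = ⊤)
    (hgood : ∀ a ∈ live, ∀ x, M.Ok x → Good M L D live a x) : ∀ w, Covered M L D live w := by
  have hH : ∀ w y, Covered M L D live w → Covered M L D live (w * M.hom y) := by
    rintro w y ⟨b, hb, g, og, hr⟩
    refine ⟨b, hb, C.mul g (M.enc y), M.ok_mul og ⟨y, rfl⟩, ?_⟩
    have := hr.mul (M.hom y)
    simpa [stVal, M.val_mul og ⟨y, rfl⟩, M.val_enc, mul_assoc] using this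
  have hT : ∀ w, Covered M L D live w → Covered M L D live (w * M.t) := by
    rintro w ⟨b, hb, g, og, hr⟩
    obtain ⟨c, hc, v, ov, hv⟩ := hgood b hb g og
    exact ⟨c, hc, v, ov, (hr.mul _).trans hv⟩
  let S : Subgroup G :=
    { carrier := {z | (∀ w, Covered M L D live w → Covered M L D live (w * z)) ∧
        ∀ w, Covered M L D live w → Covered M L D live (w * z⁻¹)}
      one_mem' := by simp
      mul_mem' := fun {a b} ha hb => by
        refine ⟨fun w hw => ?_, fun w hw => ?_⟩
        · rw [← mul_assoc]; exact hb.1 _ (ha.1 _ hw)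
        · rw [mul_inv_rev, ← mul_assoc]; exact ha.2 _ (hb.2 _ hw)
      inv_mem' := fun {a} ha => ⟨ha.2, by simpa using ha.1⟩ }
  have hS : S = ⊤ := by
    rw [eq_top_iff, ← hgen, sup_le_iff, Subgroup.closure_le, Set.singleton_subset_iff]
    refine ⟨?_, fun w hw => hT w hw, fun w hw => ?_⟩
    · rintro _ ⟨y, rfl⟩
      exact ⟨fun w hw => hH w y hw, fun w hw => by rw [← map_inv]; exact hH w y⁻¹ hw⟩
    · obtain ⟨u, hu, htt⟩ := M.u_spec
      have e : M.t⁻¹ = M.t * M.hom u⁻¹ := by rw [map_inv, ← htt]; group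
      rw [e, ← mul_assoc]
      exact hH _ _ (hT w hw)
  intro w
  have h1 : Covered M L D live 1 :=
    ⟨0, h0, C.one, M.ok_one, Rel.of_eq (by rw [stVal, M.val_one, mul_one]; rfl)⟩
  have := (show w ∈ S by rw [hS]; trivial).1 1 h1
  rwa [one_mul] at this

/-- the elements fixing the coset of a node -/
def stab (L : Subgroup G) (D : Cert) (a : ℕ) : Subgroup Hg where
  carrier := {k | Rel L (grep M D a * M.hom k) (grep M D a)}
  one_mem' := Rel.of_eq (by simp)
  mul_mem' := fun {k l} hk hl => by
    have := hk.mul (M.hom l)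
    simpa [mul_assoc] using this.trans hl
  inv_mem' := fun {k} hk => by
    have := hk.symm.mul (M.hom k⁻¹)
    simpa [mul_assoc] using this

variable [Finite Hg]

theorem index_le_of_covered {kLow : ℕ → ℕ} (hall : ∀ w, Covered M L D live w)
    (hlow : ∀ a ∈ live, kLow a ≤ Nat.card (stab M L D a) ∧ 0 < kLow a) :
    L.FiniteIndex ∧ L.index ≤ (live.map fun a => Nat.card Hg / kLow a).sum := by
  classical
  haveI : Fintype Hg := Fintype.ofFinite Hg
  let f : ℕ → Hg → G ⧸ L := fun a x => QuotientGroup.mk ((grep M D a * M.hom x)⁻¹)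
  let img : ℕ → Finset (G ⧸ L) := fun a => Finset.univ.image (f a)
  let U : Finset (G ⧸ L) := live.toFinset.biUnion img
  have hU : ∀ q : G ⧸ L, q ∈ U := by
    intro q
    induction q using QuotientGroup.induction_on with
    | _ w =>
      obtain ⟨b, hb, g, ⟨y, rfl⟩, hr⟩ := hall w⁻¹
      rw [stVal, M.val_enc] at hr
      refine Finset.mem_biUnion.2 ⟨b, List.mem_toFinset.2 hb,
        Finset.mem_image.2 ⟨y, Finset.mem_univ _, ?_⟩⟩
      refine QuotientGroup.eq.2 ?_
      have := L.inv_mem hr
      simpa [mul_assoc] using this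
  haveI : Finite (G ⧸ L) := Finite.of_surjective (fun u : U => u.1) fun q => ⟨⟨q, hU q⟩, rfl⟩
  haveI hfi : L.FiniteIndex := Subgroup.finiteIndex_of_finite_quotient
  refine ⟨hfi, ?_⟩
  haveI : Fintype (G ⧸ L) := Fintype.ofFinite _
  have himg : ∀ a ∈ live, (img a).card ≤ Nat.card Hg / kLow a := by
    intro a ha
    obtain ⟨h1, h2⟩ := hlow a ha
    have hfib : ∀ q ∈ img a, kLow a ≤ (Finset.univ.filter fun x => f a x = q).card := by
      intro q hq
      obtain ⟨x, -, rfl⟩ := Finset.mem_image.1 hq
      rw [Nat.card_eq_fintype_card] at h1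
      refine h1.trans ?_
      rw [← Finset.card_univ]
      refine Finset.card_le_card_of_injOn (fun k => (k : Hg) * x) (fun k _ => ?_) ?_
      · simp only [Finset.coe_filter, Finset.mem_univ, true_and, Set.mem_setOf_eq]
        refine QuotientGroup.eq.2 ?_
        have hk : Rel L (grep M D a * M.hom k) (grep M D a) := k.2
        simpa [Rel, mul_assoc] using hk
      · intro k _ l _ h
        exact Subtype.ext (mul_right_cancel h)
    rw [Nat.le_div_iff_mul_le h2, Nat.card_eq_fintype_card, ← Finset.card_univ,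
      Finset.card_eq_sum_card_image (f a) Finset.univ]
    calc (img a).card * kLow a = ∑ _q ∈ img a, kLow a := by simp
      _ ≤ _ := Finset.sum_le_sum hfib
  rw [Subgroup.index, Nat.card_eq_fintype_card]
  calc Fintype.card (G ⧸ L) ≤ U.card := by
        rw [← Finset.card_univ]
        exact Finset.card_le_card fun q _ => hU q
    _ ≤ ∑ a ∈ live.toFinset, (img a).card := Finset.card_biUnion_le
    _ ≤ ∑ a ∈ live.toFinset, Nat.card Hg / kLow a :=
        Finset.sum_le_sum fun a ha => himg a (List.mem_toFinset.1 ha)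
    _ ≤ _ := by
        rw [Finset.sum_list_map_count]
        refine Finset.sum_le_sum fun a ha => ?_
        simp only [smul_eq_mul]
        exact Nat.le_mul_of_pos_left _ (List.count_pos_iff.2 (List.mem_toFinset.1 ha))

/-- images of points under codes -/
structure Points (M : Model C G Hg) where
  /-- image of a point -/
  img : ℕ → ℕ → ℕ
  mul : ∀ x y p, img (M.enc (x * y)) p = img (M.enc x) (img (M.enc y) p)
  one : ∀ p, img (M.enc 1) p = p

/-- one level: facts fixing the earlier points, with distinct images of a new point -/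
def levelOK (img : ℕ → ℕ → ℕ) (C : Code) (D : Cert) (n a : ℕ) (fixed : List ℕ) (b : ℕ) :
    List ℕ → List ℕ → Bool
  | [], _ => true
  | i :: is, seen =>
    Nat.blt i n &&
    (match D.facts.get i with
      | some f => !f.e && Nat.beq f.a a && Nat.beq f.b a && Nat.beq f.y C.one &&
          fixed.all (fun p => Nat.beq (img f.x p) p) && !seen.contains (img f.x b) &&
          levelOK img C D n a fixed b is (img f.x b :: seen)
      | none => false)

/-- a chain of levels -/
def levelsOK (img : ℕ → ℕ → ℕ) (C : Code) (D : Cert) (n a : ℕ) :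
    List ℕ → List (ℕ × List ℕ) → Bool
  | _, [] => true
  | fixed, (b, is) :: rest => levelOK img C D n a fixed b is [] &&
      levelsOK img C D n a (b :: fixed) rest

theorem levelOK_spec (P : Points M) (hA : AllHold M L D n) {a : ℕ} {fixed : List ℕ} {b : ℕ} :
    ∀ (is seen : List ℕ), levelOK P.img C D n a fixed b is seen = true →
    ∃ l : List Hg, l.length = is.length ∧
      (∀ k ∈ l, k ∈ stab M L D a ∧ (∀ p ∈ fixed, P.img (M.enc k) p = p) ∧
        P.img (M.enc k) b ∉ seen) ∧
      (l.map fun k => P.img (M.enc k) b).Nodup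
  | [], seen, _ => ⟨[], rfl, by simp, by simp⟩
  | i :: is, seen, h => by
    simp only [levelOK, Bool.and_eq_true, Nat.blt, Nat.ble_eq] at h
    obtain ⟨hi, h⟩ := h
    split at h
    swap; · simp at h
    next f hf =>
    simp only [Bool.and_eq_true, Bool.not_eq_true', List.all_eq_true] at h
    obtain ⟨⟨⟨⟨⟨⟨he, ha⟩, hb⟩, hy⟩, hfix⟩, hseen⟩, hrec⟩ := h
    obtain ⟨⟨k, hk⟩, -, hr⟩ := hA i hi f hf
    obtain ⟨l, hl, hl1, hl2⟩ := levelOK_spec P hA is _ hrec
    have hseen' : P.img f.x b ∉ seen := by simpa using hseen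
    refine ⟨k :: l, by simp [hl], ?_, ?_⟩
    · intro z hz
      rcases List.mem_cons.1 hz with rfl | hz
      · refine ⟨?_, fun p hp => ?_, hk ▸ hseen'⟩
        · show Rel L _ _
          simp only [he, Bool.false_eq_true, if_false, mul_one, stVal, Nat.eq_of_beq_eq_true ha,
            Nat.eq_of_beq_eq_true hb, Nat.eq_of_beq_eq_true hy, M.val_one, ← hk, M.val_enc] at hr
          exact hr
        · rw [hk]; exact Nat.eq_of_beq_eq_true (hfix p hp)
      · obtain ⟨h1, h2, h3⟩ := hl1 z hz
        exact ⟨h1, h2, fun hs => h3 (List.mem_cons_of_mem _ hs)⟩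
    · rw [List.map_cons, List.nodup_cons]
      refine ⟨fun hm => ?_, hl2⟩
      obtain ⟨z, hz, hze⟩ := List.mem_map.1 hm
      exact (hl1 z hz).2.2 (by rw [hze, hk]; exact List.mem_cons_self)

theorem levelsOK_spec [DecidableEq Hg] (P : Points M) (hA : AllHold M L D n) {a : ℕ} :
    ∀ (lv : List (ℕ × List ℕ)) (fixed : List ℕ), levelsOK P.img C D n a fixed lv = true →
    ∃ T : Finset Hg, T.card = (lv.map fun e => e.2.length).prod ∧
      ∀ k ∈ T, k ∈ stab M L D a ∧ ∀ p ∈ fixed, P.img (M.enc k) p = p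
  | [], fixed, _ => ⟨{1}, by simp, fun k hk => by
      rw [Finset.mem_singleton] at hk; subst hk; exact ⟨one_mem _, fun p _ => P.one p⟩⟩
  | (b, is) :: rest, fixed, h => by
    simp only [levelsOK, Bool.and_eq_true] at h
    obtain ⟨l, hl, hl1, hl2⟩ := levelOK_spec M P hA is [] h.1
    obtain ⟨T, hT, hT1⟩ := levelsOK_spec P hA rest (b :: fixed) h.2
    have hnd : l.Nodup := List.Nodup.of_map _ hl2
    refine ⟨(l.toFinset ×ˢ T).image (fun z => z.1 * z.2), ?_, ?_⟩
    · rw [Finset.card_image_of_injOn, Finset.card_product, List.card_toFinset, hnd.dedup, hT]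
      · simp [hl]
      · rintro ⟨u, v⟩ huv ⟨u', v'⟩ huv' he
        simp only [Finset.coe_product, Set.mem_prod, Finset.mem_coe, List.mem_toFinset] at huv huv'
        simp only at he
        have e := congrArg (fun z => P.img (M.enc z) b) he
        simp only [P.mul, (hT1 v huv.2).2 b List.mem_cons_self,
          (hT1 v' huv'.2).2 b List.mem_cons_self] at e
        have hu : u = u' := List.inj_on_of_nodup_map hl2 huv.1 huv'.1 e
        subst hu
        rw [mul_left_cancel he]
    · intro k hk
      obtain ⟨⟨u, v⟩, huv, rfl⟩ := Finset.mem_image.1 hk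
      rw [Finset.mem_product, List.mem_toFinset] at huv
      refine ⟨mul_mem (hl1 u huv.1).1 (hT1 v huv.2).1, fun p hp => ?_⟩
      rw [P.mul, (hT1 v huv.2).2 p (List.mem_cons_of_mem _ hp), (hl1 u huv.1).2.1 p hp]

theorem le_card_stab (P : Points M) (hA : AllHold M L D n) {a : ℕ} {lv : List (ℕ × List ℕ)}
    (h : levelsOK P.img C D n a [] lv = true) :
    (lv.map fun e => e.2.length).prod ≤ Nat.card (stab M L D a) := by
  classical
  obtain ⟨T, hT, hT1⟩ := levelsOK_spec M P hA lv [] h
  rw [← hT, ← Nat.card_eq_finsetCard]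
  exact Nat.card_le_card_of_injective (fun k : T => (⟨k.1, (hT1 k.1 k.2).1⟩ : stab M L D a))
    fun k l hkl => Subtype.ext (congrArg Subtype.val hkl :)

end CfsgLib.DCert22
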