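import Mathlib.GroupTheory.Index

/-!
Certificates for double coset enumeration: data and Boolean checks.

`L` is a subgroup of `G`, `t` an element, and a finite group `H` with a map into `G` is coded by
numbers. A state `(a, h)` stands for the coset `L * g a * h`. A fact either equates two states or
says that `t` carries one state to the other. Each fact is replayed from earlier ones.
-/

set_option autoImplicit false

namespace CfsgLib.DCert22

/-- the coded operations of the small group -/
structure Code where
  /-- product -/
  mul : ℕ → ℕ → ℕ
  /-- inverse -/
  inv : ℕ → ℕ
  /-- identity -/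
  one : ℕ
  /-- the square of `t` -/
  u : ℕ
  /-- membership test -/
  valid : ℕ → Bool
  /-- the code `d` with `c t = t d` -/
  cim : ℕ → Option ℕ

/-- one step of a path -/
inductive Op where
  | h (x : ℕ)
  | q (f : ℕ) (s : Bool)
  | t (f : ℕ) (s : Bool)

/-- how the two paths of a fact are matched -/
inductive Mode where
  | node
  | same
  | rel (i : ℕ)
  | sub (i : ℕ)

/-- a fact with its derivation -/
structure Fact where
  /-- is it a `t`-fact -/
  e : Bool
  /-- first node -/
  a : ℕ
  /-- first element -/
  x : ℕ
  /-- second node -/
  b : ℕ
  /-- second element -/
  y : ℕ
  /-- matching rule -/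
  mode : Mode
  /-- start node -/
  sa : ℕ
  /-- start element -/
  sx : ℕ
  /-- first path -/
  l : List Op
  /-- second path -/
  r : List Op

/-- binary trees of facts -/
inductive Store where
  | leaf
  | one (f : Fact)
  | node (n : ℕ) (l r : Store)

/-- lookup; `n` is the number of entries of the left part -/
def Store.get : Store → ℕ → Option Fact
  | .leaf, _ => none
  | .one f, i => if Nat.beq i 0 then some f else none
  | .node n l r, i => if Nat.blt i n then l.get i else r.get (i - n)

/-- the data of an enumeration -/
structure Cert where
  /-- all facts -/
  facts : Store
  /-- node `k + 1` is `g a * x * t` for the entry `k` -/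
  nodes : List (ℕ × ℕ)
  /-- words equal to one -/
  rels : List (ℕ × List ℕ)
  /-- words of elements of the subgroup -/
  subs : List (ℕ × List ℕ)

/-- one step at a state -/
def step (C : Code) (S : Store) (n : ℕ) : Op → ℕ × ℕ → Option (ℕ × ℕ)
  | .h x, (a, h) => if C.valid x then some (a, C.mul h x) else none
  | .q i s, (a, h) =>
    if Nat.blt i n then
      match S.get i with
      | some f =>
        if f.e then none else
        bif s then
          (if Nat.beq a f.a then some (f.b, C.mul f.y (C.mul (C.inv f.x) h)) else none)
        else
          (if Nat.beq a f.b then some (f.a, C.mul f.x (C.mul (C.inv f.y) h)) else none)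
      | none => none
    else none
  | .t i s, (a, h) =>
    if Nat.blt i n then
      match S.get i with
      | some f =>
        if f.e then
          bif s then
            (if Nat.beq a f.a then
              (C.cim (C.mul (C.inv f.x) h)).map fun d => (f.b, C.mul f.y d)
            else none)
          else
            (if Nat.beq a f.b then
              (C.cim (C.mul (C.inv f.y) h)).map fun d => (f.a, C.mul f.x (C.mul C.u d))
            else none)
        else none
      | none => none
    else none

/-- a path from a state -/
def run (C : Code) (S : Store) (n : ℕ) : List Op → ℕ × ℕ → Option (ℕ × ℕ)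
  | [], p => some p
  | o :: l, p =>
    match step C S n o p with
    | some q => run C S n l q
    | none => none

/-- normal form of the word of a path -/
def word (C : Code) : List Op → ℕ × List ℕ
  | [] => (C.one, [])
  | .h x :: l => (C.mul x (word C l).1, (word C l).2)
  | .q _ _ :: l => word C l
  | .t _ _ :: l => (C.one, (word C l).1 :: (word C l).2)

/-- a path whose word is the inverse -/
def revPath (C : Code) : List Op → List Op
  | [] => []
  | .h x :: l => revPath C l ++ [.h (C.inv x)]
  | .q _ _ :: l => revPath C l
  | .t f s :: l => revPath C l ++ [.h (C.inv C.u), .t f s]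

/-- all group letters are valid -/
def pathValid (C : Code) : List Op → Bool
  | [] => true
  | .h x :: l => C.valid x && pathValid C l
  | _ :: l => pathValid C l

/-- equality of normal forms -/
def weq : List ℕ → List ℕ → Bool
  | [], [] => true
  | a :: l, b :: m => Nat.beq a b && weq l m
  | _, _ => false

/-- equality of words -/
def wordEq (v w : ℕ × List ℕ) : Bool := Nat.beq v.1 w.1 && weq v.2 w.2

/-- the path with the letter `t` appended for a `t`-fact -/
def fullPath (f : Fact) : List Op := f.l ++ bif f.e then [.t 0 true] else []

/-- the two words match -/
def modeOK (C : Code) (D : Cert) (f : Fact) : Bool :=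
  match f.mode with
  | .node => false
  | .same => wordEq (word C (fullPath f)) (word C f.r)
  | .rel i =>
    match D.rels[i]? with
    | some w => wordEq (word C (fullPath f ++ revPath C f.r)) w
    | none => false
  | .sub i =>
    match D.subs[i]? with
    | some w => Nat.beq f.sa 0 && Nat.beq f.sx C.one &&
        wordEq (word C (fullPath f ++ revPath C f.r)) w
    | none => false

/-- the definition of a node -/
def nodeOK (C : Code) (D : Cert) (f : Fact) : Bool :=
  match f.b with
  | 0 => false
  | k + 1 =>
    match D.nodes[k]? with
    | some (a, x) => f.e && Nat.beq a f.a && Nat.beq x f.x && Nat.blt a (k + 1) &&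
        Nat.beq f.y C.one && C.valid x
    | none => false

/-- does the fact define a node -/
def Mode.isNode : Mode → Bool
  | .node => true
  | _ => false

/-- fact number `i` follows from the earlier ones -/
def factOK (C : Code) (D : Cert) (i : ℕ) : Bool :=
  match D.facts.get i with
  | none => false
  | some f =>
    bif f.mode.isNode then nodeOK C D f
    else
      C.valid f.sx && modeOK C D f &&
      (match run C D.facts i f.l (f.sa, f.sx) with
        | some (a, x) => Nat.beq a f.a && Nat.beq x f.x
        | none => false) &&
      (match run C D.facts i f.r (f.sa, f.sx) with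
        | some (b, y) => Nat.beq b f.b && Nat.beq y f.y
        | none => false)

/-- facts in a range -/
def rangeOK (C : Code) (D : Cert) (s : ℕ) : ℕ → Bool
  | 0 => true
  | k + 1 => rangeOK C D s k && factOK C D (s + k)

/-- a point of a node: an edge, or a step to an earlier point -/
inductive Link where
  | edge (p : ℕ) (f : ℕ) (s : Bool)
  | back (p : ℕ) (f : ℕ) (s : Bool) (q : ℕ)

/-- one link, given the points already done -/
def linkOK (C : Code) (D : Cert) (n : ℕ) (rep : ℕ → ℕ) (live : List ℕ) (a : ℕ)
    (done : ℕ → Bool) : Link → Bool
  | .edge p f s => C.valid (rep p) &&
    match step C D.facts n (.t f s) (a, rep p) with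
    | some (b, _) => live.contains b
    | none => false
  | .back p f s q => C.valid (rep p) && C.valid (rep q) && done q &&
    match step C D.facts n (.q f s) (a, rep p) with
    | some (b, h) => Nat.beq b a && (C.cim (C.mul (C.inv (rep q)) h)).isSome
    | none => false

/-- the point of a link -/
def Link.pt : Link → ℕ
  | .edge p _ _ => p
  | .back p _ _ _ => p

/-- links, most recent first, starting from a mask; a link may only point to a later one -/
def chainFrom (C : Code) (D : Cert) (n : ℕ) (rep : ℕ → ℕ) (live : List ℕ) (a m₀ : ℕ) :
    List Link → Option ℕ
  | [] => some m₀
  | l :: ls =>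
    match chainFrom C D n rep live a m₀ ls with
    | some m =>
      if linkOK C D n rep live a (fun q => Nat.testBit m q) l then
        some (Nat.lor m (Nat.shiftLeft 1 l.pt))
      else none
    | none => none

/-- the mask is full -/
def fullMask (np m : ℕ) : Bool := Nat.beq m (Nat.shiftLeft 1 np - 1)

/-- a checked segment -/
def segOK (C : Code) (D : Cert) (n : ℕ) (rep : ℕ → ℕ) (live : List ℕ) (a m₀ m₁ : ℕ)
    (ls : List Link) : Bool :=
  match chainFrom C D n rep live a m₀ ls with
  | some m => Nat.beq m m₁
  | none => false

end CfsgLib.DCert22
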