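import Cfsg.Agent.DCosetCert22.Defs
import Mathlib.GroupTheory.QuotientGroup.Basic
import Mathlib.SetTheory.Cardinal.Finite
import Mathlib.Tactic.Group

/-!
Soundness of double coset certificates.
-/

set_option autoImplicit false

namespace CfsgLib.DCert22

variable {G Hg : Type*} [Group G] [Group Hg]

/-- a faithful coding of a group and its map into `G` -/
structure Model (C : Code) (G Hg : Type*) [Group G] [Group Hg] where
  /-- coding -/
  enc : Hg → ℕ
  /-- the map into `G` -/
  hom : Hg →* G
  /-- the extra generator -/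
  t : G
  enc_inj : Function.Injective enc
  enc_one : enc 1 = C.one
  enc_mul : ∀ x y, enc (x * y) = C.mul (enc x) (enc y)
  enc_inv : ∀ x, enc x⁻¹ = C.inv (enc x)
  valid_spec : ∀ n, C.valid n = true → ∃ x, enc x = n
  u_spec : ∃ x, enc x = C.u ∧ t * t = hom x
  cim_spec : ∀ c d, C.cim c = some d →
    ∃ x y, enc x = c ∧ enc y = d ∧ hom x * t = t * hom y

variable {C : Code} (M : Model C G Hg)

namespace Model

/-- codes of group elements -/
def Ok (n : ℕ) : Prop := ∃ x, M.enc x = n

open Classical in
/-- the value of a code -/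
noncomputable def val (n : ℕ) : G := if h : M.Ok n then M.hom h.choose else 1

theorem val_enc (x : Hg) : M.val (M.enc x) = M.hom x := by
  have h : M.Ok (M.enc x) := ⟨x, rfl⟩
  unfold val
  rw [dif_pos h]
  exact congrArg M.hom (M.enc_inj h.choose_spec)

theorem ok_one : M.Ok C.one := ⟨1, M.enc_one⟩

theorem val_one : M.val C.one = 1 := by rw [← M.enc_one, val_enc, map_one]

theorem ok_mul {a b : ℕ} : M.Ok a → M.Ok b → M.Ok (C.mul a b) := by
  rintro ⟨x, rfl⟩ ⟨y, rfl⟩; exact ⟨x * y, M.enc_mul x y⟩

theorem val_mul {a b : ℕ} : M.Ok a → M.Ok b → M.val (C.mul a b) = M.val a * M.val b := by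
  rintro ⟨x, rfl⟩ ⟨y, rfl⟩; rw [← M.enc_mul, val_enc, val_enc, val_enc, map_mul]

theorem ok_inv {a : ℕ} : M.Ok a → M.Ok (C.inv a) := by
  rintro ⟨x, rfl⟩; exact ⟨x⁻¹, M.enc_inv x⟩

theorem val_inv {a : ℕ} : M.Ok a → M.val (C.inv a) = (M.val a)⁻¹ := by
  rintro ⟨x, rfl⟩; rw [← M.enc_inv, val_enc, val_enc, map_inv]

theorem ok_u : M.Ok C.u := let ⟨x, hx, _⟩ := M.u_spec; ⟨x, hx⟩

theorem val_u : M.val C.u = M.t * M.t := by
  obtain ⟨x, hx, h⟩ := M.u_spec; rw [← hx, val_enc, h]

theorem ok_valid {n : ℕ} (h : C.valid n = true) : M.Ok n := M.valid_spec n h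

theorem cim_ok {c d : ℕ} (h : C.cim c = some d) :
    M.Ok c ∧ M.Ok d ∧ M.val c * M.t = M.t * M.val d := by
  obtain ⟨x, y, hx, hy, hh⟩ := M.cim_spec c d h
  subst hx hy
  exact ⟨⟨x, rfl⟩, ⟨y, rfl⟩, by rw [val_enc, val_enc]; exact hh⟩

theorem t_inv : M.t⁻¹ = M.val (C.inv C.u) * M.t := by
  rw [M.val_inv M.ok_u, val_u]; group

/-- value of a path -/
noncomputable def pathVal : List Op → G
  | [] => 1
  | .h x :: l => M.val x * pathVal l
  | .q _ _ :: l => pathVal l
  | .t _ _ :: l => M.t * pathVal l

/-- value of a normal form -/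
noncomputable def wordVal (w : ℕ × List ℕ) : G :=
  M.val w.1 * (w.2.map fun x => M.t * M.val x).prod

theorem pathVal_append : ∀ l m : List Op, M.pathVal (l ++ m) = M.pathVal l * M.pathVal m
  | [], m => by simp [pathVal]
  | .h x :: l, m => by simp [pathVal, pathVal_append l m, mul_assoc]
  | .q f s :: l, m => by simp [pathVal, pathVal_append l m]
  | .t f s :: l, m => by simp [pathVal, pathVal_append l m, mul_assoc]

theorem pathValid_append : ∀ l m : List Op,
    pathValid C (l ++ m) = (pathValid C l && pathValid C m)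
  | [], m => by simp [pathValid]
  | .h x :: l, m => by simp [pathValid, pathValid_append l m, Bool.and_assoc]
  | .q f s :: l, m => by simp [pathValid, pathValid_append l m]
  | .t f s :: l, m => by simp [pathValid, pathValid_append l m]

/-- the letters of a path are codes -/
def PathOk : List Op → Prop
  | [] => True
  | .h x :: l => M.Ok x ∧ PathOk l
  | _ :: l => PathOk l

theorem pathOk_append : ∀ l m : List Op, M.PathOk l → M.PathOk m → M.PathOk (l ++ m)
  | [], _, _, hm => hm
  | .h _ :: l, m, h, hm => ⟨h.1, pathOk_append l m h.2 hm⟩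
  | .q _ _ :: l, m, h, hm => pathOk_append l m h hm
  | .t _ _ :: l, m, h, hm => pathOk_append l m h hm

theorem pathOk_rev : ∀ l : List Op, M.PathOk l → M.PathOk (revPath C l) ∧
    M.pathVal (revPath C l) = (M.pathVal l)⁻¹
  | [], _ => ⟨trivial, by simp [revPath, pathVal]⟩
  | .h x :: l, h => by
    obtain ⟨h1, h2⟩ := pathOk_rev l h.2
    refine ⟨M.pathOk_append _ _ h1 ⟨M.ok_inv h.1, trivial⟩, ?_⟩
    rw [revPath, pathVal_append, h2]
    simp [pathVal, M.val_inv h.1]
  | .q f s :: l, h => by
    simpa [revPath, pathVal] using pathOk_rev l h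
  | .t f s :: l, h => by
    obtain ⟨h1, h2⟩ := pathOk_rev l h
    refine ⟨M.pathOk_append _ _ h1 ⟨M.ok_inv M.ok_u, trivial⟩, ?_⟩
    rw [revPath, pathVal_append, h2]
    simp only [pathVal, mul_one]
    rw [← M.t_inv, mul_inv_rev]

theorem word_spec : ∀ l : List Op, M.PathOk l →
    M.Ok (word C l).1 ∧ M.wordVal (word C l) = M.pathVal l
  | [], _ => ⟨M.ok_one, by simp [word, wordVal, pathVal, val_one]⟩
  | .h x :: l, h => by
    obtain ⟨h1, h2⟩ := word_spec l h.2
    refine ⟨M.ok_mul h.1 h1, ?_⟩
    show M.val (C.mul x (word C l).1) * _ = _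
    rw [M.val_mul h.1 h1, mul_assoc]
    exact congrArg (M.val x * ·) h2
  | .q _ _ :: l, h => by simpa [word, pathVal] using word_spec l h
  | .t _ _ :: l, h => by
    obtain ⟨h1, h2⟩ := word_spec l h
    refine ⟨M.ok_one, ?_⟩
    simp only [word, wordVal, List.map_cons, List.prod_cons, val_one, one_mul, pathVal, ← h2]
    rw [mul_assoc]

end Model

theorem weq_eq : ∀ {l m : List ℕ}, weq l m = true → l = m
  | [], [], _ => rfl
  | a :: l, b :: m, h => by
    rw [weq, Bool.and_eq_true] at h
    rw [Nat.eq_of_beq_eq_true h.1, weq_eq h.2]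
  | [], _ :: _, h => by simp [weq] at h
  | _ :: _, [], h => by simp [weq] at h

theorem wordEq_eq {v w : ℕ × List ℕ} (h : wordEq v w = true) : v = w := by
  rw [wordEq, Bool.and_eq_true] at h
  exact Prod.ext (Nat.eq_of_beq_eq_true h.1) (weq_eq h.2)

/-- the representatives of the nodes, by fuel -/
noncomputable def gaux (D : Cert) : ℕ → ℕ → G
  | 0, _ => 1
  | _ + 1, 0 => 1
  | m + 1, k + 1 =>
    match D.nodes[k]? with
    | some (a, x) => gaux D m a * M.val x * M.t
    | none => 1

/-- the representative of a node -/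
noncomputable def grep (D : Cert) (a : ℕ) : G := gaux M D (a + 1) a

theorem gaux_eq (D : Cert) (hn : ∀ k a x : ℕ, D.nodes[k]? = some (a, x) → a ≤ k) :
    ∀ m a, a < m → gaux M D m a = grep M D a := by
  intro m
  induction m using Nat.strong_induction_on with
  | _ m ih =>
    intro a ha
    obtain ⟨m, rfl⟩ : ∃ j, m = j + 1 := ⟨m - 1, by omega⟩
    cases a with
    | zero => rfl
    | succ k =>
      show _ = gaux M D (k + 1 + 1) (k + 1)
      simp only [gaux]
      split
      · next p q hk =>
        have hp : p ≤ k := hn k p q hk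
        rw [ih m (by omega) p (by omega)]
        by_cases hm : k + 1 < m + 1
        · rw [ih (k + 1) hm p (by omega)]
        · omega
      · rfl

variable (L : Subgroup G)

/-- same coset of `L` -/
def Rel (u v : G) : Prop := u * v⁻¹ ∈ L

theorem Rel.refl (u : G) : Rel L u u := by simp [Rel, one_mem]

variable {L}

theorem Rel.symm {u v : G} (h : Rel L u v) : Rel L v u := by
  have := L.inv_mem h
  simpa [Rel] using this

theorem Rel.trans {u v w : G} (h : Rel L u v) (h' : Rel L v w) : Rel L u w := by
  have := L.mul_mem h h'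
  simpa [Rel, mul_assoc] using this

theorem Rel.mul {u v : G} (h : Rel L u v) (w : G) : Rel L (u * w) (v * w) := by
  simpa [Rel, mul_assoc] using h

theorem Rel.of_eq {u v : G} (h : u = v) : Rel L u v := h ▸ Rel.refl L u

variable (L) (D : Cert)

/-- the coset element of a state -/
noncomputable def stVal (p : ℕ × ℕ) : G := grep M D p.1 * M.val p.2

/-- what a fact claims -/
def Holds (f : Fact) : Prop :=
  M.Ok f.x ∧ M.Ok f.y ∧
    Rel L (stVal M D (f.a, f.x) * if f.e then M.t else 1) (stVal M D (f.b, f.y))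

/-- the facts below `n` hold -/
def AllHold (n : ℕ) : Prop := ∀ i < n, ∀ f, D.facts.get i = some f → Holds M L D f

variable {L D}

theorem step_spec {n : ℕ} (hA : AllHold M L D n) {o : Op} {p q : ℕ × ℕ} (hp : M.Ok p.2)
    (h : step C D.facts n o p = some q) :
    M.PathOk [o] ∧ M.Ok q.2 ∧ Rel L (stVal M D p * M.pathVal [o]) (stVal M D q) := by
  obtain ⟨a, x⟩ := p
  cases o with
  | h z =>
    simp only [step] at h
    split at h
    · next hz =>
      cases h
      have hz := M.ok_valid hz
      exact ⟨⟨hz, trivial⟩, M.ok_mul hp hz,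
        Rel.of_eq (by simp [stVal, Model.pathVal, M.val_mul hp hz, mul_assoc])⟩
    · cases h
  | q i s =>
    simp only [step] at h
    split at h
    swap; · cases h
    next hi =>
    split at h
    swap; · cases h
    next f hf =>
    split at h
    · cases h
    next he =>
    obtain ⟨hx, hy, hr⟩ := hA i (by simpa [Nat.blt, Nat.ble_eq] using hi) f hf
    simp only [he, Bool.false_eq_true, if_false, mul_one] at hr
    cases s
    · simp only [cond_false] at h
      split at h
      swap; · cases h
      next ha =>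
      obtain rfl := Nat.eq_of_beq_eq_true ha
      cases h
      refine ⟨trivial, M.ok_mul hx (M.ok_mul (M.ok_inv hy) hp), ?_⟩
      have := (hr.symm).mul ((M.val f.y)⁻¹ * M.val x)
      simpa [stVal, Model.pathVal, M.val_mul hx (M.ok_mul (M.ok_inv hy) hp),
        M.val_mul (M.ok_inv hy) hp, M.val_inv hy, mul_assoc] using this
    · simp only [cond_true] at h
      split at h
      swap; · cases h
      next ha =>
      obtain rfl := Nat.eq_of_beq_eq_true ha
      cases h
      refine ⟨trivial, M.ok_mul hy (M.ok_mul (M.ok_inv hx) hp), ?_⟩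
      have := hr.mul ((M.val f.x)⁻¹ * M.val x)
      simpa [stVal, Model.pathVal, M.val_mul hy (M.ok_mul (M.ok_inv hx) hp),
        M.val_mul (M.ok_inv hx) hp, M.val_inv hx, mul_assoc] using this
  | t i s =>
    simp only [step] at h
    split at h
    swap; · cases h
    next hi =>
    split at h
    swap; · cases h
    next f hf =>
    split at h
    swap; · cases h
    next he =>
    obtain ⟨hx, hy, hr⟩ := hA i (by simpa [Nat.blt, Nat.ble_eq] using hi) f hf
    simp only [he, if_true] at hr
    cases s <;> simp only [cond_false, cond_true] at h <;> split at h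
    · next ha =>
      obtain rfl := Nat.eq_of_beq_eq_true ha
      obtain ⟨d, hd, rfl⟩ := Option.map_eq_some_iff.1 h
      obtain ⟨hc, hd', hcd⟩ := M.cim_ok hd
      refine ⟨trivial, M.ok_mul hx (M.ok_mul M.ok_u hd'), ?_⟩
      have h1 : M.val x = M.val f.y * M.val (C.mul (C.inv f.y) x) := by
        rw [M.val_mul (M.ok_inv hy) hp, M.val_inv hy, mul_inv_cancel_left]
      have := hr.symm.mul (M.val (C.mul (C.inv f.y) x) * M.t)
      simp only [stVal, Model.pathVal, mul_one, M.val_mul hx (M.ok_mul M.ok_u hd'),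
        M.val_mul M.ok_u hd', M.val_u] at this ⊢
      rw [h1]
      have e : M.val (C.mul (C.inv f.y) x) * M.t = M.t * M.val d := hcd
      simpa [mul_assoc, e] using this
    · cases h
    · next ha =>
      obtain rfl := Nat.eq_of_beq_eq_true ha
      obtain ⟨d, hd, rfl⟩ := Option.map_eq_some_iff.1 h
      obtain ⟨hc, hd', hcd⟩ := M.cim_ok hd
      refine ⟨trivial, M.ok_mul hy hd', ?_⟩
      have h1 : M.val x = M.val f.x * M.val (C.mul (C.inv f.x) x) := by
        rw [M.val_mul (M.ok_inv hx) hp, M.val_inv hx, mul_inv_cancel_left]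
      have := hr.mul (M.val d)
      simp only [stVal, Model.pathVal, mul_one, M.val_mul hy hd'] at this ⊢
      rw [h1]
      have e : M.val (C.mul (C.inv f.x) x) * M.t = M.t * M.val d := hcd
      simpa [mul_assoc, e] using this
    · cases h

theorem run_spec {n : ℕ} (hA : AllHold M L D n) : ∀ {l : List Op} {p q : ℕ × ℕ}, M.Ok p.2 →
    run C D.facts n l p = some q →
    M.PathOk l ∧ M.Ok q.2 ∧ Rel L (stVal M D p * M.pathVal l) (stVal M D q)
  | [], p, q, hp, h => by
    simp only [run, Option.some.injEq] at h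
    subst h
    exact ⟨trivial, hp, Rel.of_eq (by simp [Model.pathVal])⟩
  | o :: l, p, q, hp, h => by
    simp only [run] at h
    split at h
    swap; · cases h
    next r hr =>
    obtain ⟨h1, h2, h3⟩ := step_spec M hA hp hr
    obtain ⟨h4, h5, h6⟩ := run_spec hA h2 h
    refine ⟨M.pathOk_append [o] l h1 h4, h5, ?_⟩
    show Rel L (stVal M D p * M.pathVal ([o] ++ l)) _
    rw [M.pathVal_append, ← mul_assoc]
    exact (h3.mul _).trans h6

/-- the words listed in a certificate are correct -/
structure CertOK (L : Subgroup G) (D : Cert) : Prop where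
  nodes_lt : ∀ k a x : ℕ, D.nodes[k]? = some (a, x) → a ≤ k
  rels : ∀ (i : ℕ) w, D.rels[i]? = some w → M.wordVal w = 1
  subs : ∀ (i : ℕ) w, D.subs[i]? = some w → M.wordVal w ∈ L

theorem fact_spec (hD : CertOK M L D) {i : ℕ} (hA : AllHold M L D i)
    (h : factOK C D i = true) : ∀ f, D.facts.get i = some f → Holds M L D f := by
  intro f hf
  simp only [factOK, hf] at h
  by_cases hm : f.mode = .node
  · simp only [hm, Mode.isNode, cond_true, nodeOK] at h
    split at h
    · simp at h
    next k hb =>
    split at h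
    swap; · simp at h
    next a x hk =>
    simp only [Bool.and_eq_true] at h
    obtain ⟨⟨⟨⟨⟨he, h1⟩, h2⟩, -⟩, h3⟩, h4⟩ := h
    obtain rfl := Nat.eq_of_beq_eq_true h1
    obtain rfl := Nat.eq_of_beq_eq_true h2
    have hy := Nat.eq_of_beq_eq_true h3
    refine ⟨M.ok_valid h4, hy ▸ M.ok_one, Rel.of_eq ?_⟩
    simp only [stVal, he, if_true, hy, M.val_one, mul_one, hb]
    show _ = gaux M D (k + 1 + 1) (k + 1)
    simp only [gaux, hk]
    have hlt : f.a ≤ k := hD.nodes_lt k f.a f.x hk
    have hg := gaux_eq M D hD.nodes_lt (k + 1) f.a (by omega)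
    rw [hg]
  · have hn : f.mode.isNode = false := by
      cases hmm : f.mode <;> first | exact absurd hmm hm | rfl
    simp only [hn, cond_false] at h
    simp only [Bool.and_eq_true] at h
    obtain ⟨⟨⟨hsx, hmo⟩, hl⟩, hr⟩ := h
    have hsx := M.ok_valid hsx
    split at hl
    swap; · simp at hl
    next a x hla =>
    split at hr
    swap; · simp at hr
    next b y hrb =>
    simp only [Bool.and_eq_true] at hl hr
    obtain rfl := Nat.eq_of_beq_eq_true hl.1
    obtain rfl := Nat.eq_of_beq_eq_true hl.2
    obtain rfl := Nat.eq_of_beq_eq_true hr.1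
    obtain rfl := Nat.eq_of_beq_eq_true hr.2
    obtain ⟨ol, okx, rl⟩ := run_spec M hA (p := (f.sa, f.sx)) hsx hla
    obtain ⟨orr, oky, rr⟩ := run_spec M hA (p := (f.sa, f.sx)) hsx hrb
    refine ⟨okx, oky, ?_⟩
    have hfull : M.PathOk (fullPath f) ∧
        M.pathVal (fullPath f) = M.pathVal f.l * if f.e then M.t else 1 := by
      unfold fullPath
      cases f.e
      · simp only [cond_false, List.append_nil, Bool.false_eq_true, if_false, mul_one]
        exact ⟨ol, trivial⟩
      · refine ⟨M.pathOk_append _ _ ol trivial, ?_⟩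
        rw [M.pathVal_append]; simp [Model.pathVal]
    have key : Rel L (stVal M D (f.sa, f.sx) * M.pathVal (fullPath f))
        (stVal M D (f.sa, f.sx) * M.pathVal f.r) := by
      have hrev := M.pathOk_rev f.r orr
      have hboth := M.word_spec _ (M.pathOk_append _ _ hfull.1 hrev.1)
      have hv : M.wordVal (word C (fullPath f ++ revPath C f.r)) =
          M.pathVal (fullPath f) * (M.pathVal f.r)⁻¹ := by
        rw [hboth.2, M.pathVal_append, hrev.2]
      unfold modeOK at hmo
      split at hmo
      · next hh => exact absurd hh hm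
      · refine Rel.of_eq ?_
        rw [← (M.word_spec _ hfull.1).2, ← (M.word_spec _ orr).2, wordEq_eq hmo]
      · split at hmo
        swap; · simp at hmo
        next w hw =>
        refine Rel.of_eq ?_
        rw [wordEq_eq hmo, hD.rels _ _ hw, eq_comm, mul_inv_eq_one] at hv
        rw [hv]
      · split at hmo
        swap; · simp at hmo
        next w hw =>
        simp only [Bool.and_eq_true] at hmo
        obtain ⟨⟨ha, hx⟩, hmo⟩ := hmo
        have e1 : stVal M D (f.sa, f.sx) = 1 := by
          rw [stVal, Nat.eq_of_beq_eq_true ha, Nat.eq_of_beq_eq_true hx, M.val_one, mul_one]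
          rfl
        rw [e1, one_mul, one_mul, Rel, ← hv, wordEq_eq hmo]
        exact hD.subs _ _ hw
    rw [hfull.2, ← mul_assoc] at key
    exact ((rl.symm.mul _).trans key).trans rr

theorem rangeOK_spec : ∀ {s k : ℕ}, rangeOK C D s k = true → ∀ j < k, factOK C D (s + j) = true
  | s, 0, _, j, hj => absurd hj (Nat.not_lt_zero j)
  | s, k + 1, h, j, hj => by
    simp only [rangeOK, Bool.and_eq_true] at h
    rcases Nat.lt_succ_iff_lt_or_eq.1 hj with hj | rfl
    · exact rangeOK_spec h.1 j hj
    · exact h.2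

theorem allHold_of_ranges (hD : CertOK M L D) {n : ℕ}
    (h : ∀ i < n, factOK C D i = true) : AllHold M L D n := by
  induction n with
  | zero => intro i hi; omega
  | succ n ih =>
    intro i hi f hf
    rcases Nat.lt_succ_iff_lt_or_eq.1 hi with hi | rfl
    · exact ih (fun j hj => h j (by omega)) i hi f hf
    · exact fact_spec M hD (ih fun j hj => h j (by omega)) (h i (by omega)) f hf

end CfsgLib.DCert22
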